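import Cfsg.Agent.H22.Mix.Main
import Cfsg.Agent.H15.NS.RFive

/-!
# The mixed case, `p = 3`: there is no minimal counterexample with `θ(A)` not solvable
-/

set_option autoImplicit false

namespace Cfsg.Agent.H15.RFive

open Cfsg (signalizerInf)
open Cfsg.Agent.H309.NS (MinC)

universe u

/-- **The mixed case, `p = 3`.** -/
theorem mix_false {G : Type u} [Group G] [Finite G] {A : Subgroup G} {θ : G → Subgroup G}
    (h : MinC 3 A θ) (hns : ¬ Group.IsSolvable (signalizerInf A θ)) : False :=
  Cfsg.Agent.H22.Mix.mix_of rfive h hns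

end Cfsg.Agent.H15.RFive
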